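import Cfsg.Agent.Lib.H17.Y522Q.Tables

set_option autoImplicit false
set_option maxRecDepth 100000

/-! # Relator checks for Y522Q, part 0 (generated) -/

namespace Cfsg.Agent.Lib.H17.Y522Q

open Cfsg.Spor Cfsg.Agent.Lib.H17.CosetCert Cfsg.Agent.Lib.H17.CoxGlue Cfsg.Agent.Lib.H17.Y522Glue

theorem relT0_ok : checkWord 11 2048 relT0 1080 = true := by
  decide +kernel

theorem relT1_ok : checkWord 11 2048 relT1 1080 = true := by
  decide +kernel

theorem relT2_ok : checkWord 11 2048 relT2 1080 = true := by
  decide +kernel

theorem relT3_ok : checkWord 11 2048 relT3 1080 = true := by
  decide +kernel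

theorem relT4_ok : checkWord 11 2048 relT4 1080 = true := by
  decide +kernel

theorem relT5_ok : checkWord 11 2048 relT5 1080 = true := by
  decide +kernel

theorem relT6_ok : checkWord 11 2048 relT6 1080 = true := by
  decide +kernel

theorem relT7_ok : checkWord 11 2048 relT7 1080 = true := by
  decide +kernel

theorem relT8_ok : checkWord 11 2048 relT8 1080 = true := by
  decide +kernel

theorem relT9_ok : checkWord 11 2048 relT9 1080 = true := by
  decide +kernel

theorem relT10_ok : checkWord 11 2048 relT10 1080 = true := by
  decide +kernel

theorem relT11_ok : checkWord 11 2048 relT11 1080 = true := by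
  decide +kernel

theorem relT12_ok : checkWord 11 2048 relT12 1080 = true := by
  decide +kernel

theorem relT13_ok : checkWord 11 2048 relT13 1080 = true := by
  decide +kernel

theorem relT14_ok : checkWord 11 2048 relT14 1080 = true := by
  decide +kernel

theorem relT15_ok : checkWord 11 2048 relT15 1080 = true := by
  decide +kernel

theorem relT16_ok : checkWord 11 2048 relT16 1080 = true := by
  decide +kernel

theorem relT17_ok : checkWord 11 2048 relT17 1080 = true := by
  decide +kernel

theorem relT18_ok : checkWord 11 2048 relT18 1080 = true := by
  decide +kernel

theorem relT19_ok : checkWord 11 2048 relT19 1080 = true := by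
  decide +kernel

theorem relT20_ok : checkWord 11 2048 relT20 1080 = true := by
  decide +kernel

theorem relT21_ok : checkWord 11 2048 relT21 1080 = true := by
  decide +kernel

theorem relT22_ok : checkWord 11 2048 relT22 1080 = true := by
  decide +kernel

theorem relT23_ok : checkWord 11 2048 relT23 1080 = true := by
  decide +kernel

theorem relT24_ok : checkWord 11 2048 relT24 1080 = true := by
  decide +kernel

theorem relT25_ok : checkWord 11 2048 relT25 1080 = true := by
  decide +kernel

theorem relT26_ok : checkWord 11 2048 relT26 1080 = true := by
  decide +kernel

theorem relT27_ok : checkWord 11 2048 relT27 1080 = true := by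
  decide +kernel

theorem relT28_ok : checkWord 11 2048 relT28 1080 = true := by
  decide +kernel

theorem relT29_ok : checkWord 11 2048 relT29 1080 = true := by
  decide +kernel

theorem relT30_ok : checkWord 11 2048 relT30 1080 = true := by
  decide +kernel

theorem relT31_ok : checkWord 11 2048 relT31 1080 = true := by
  decide +kernel

theorem relT32_ok : checkWord 11 2048 relT32 1080 = true := by
  decide +kernel

theorem relT33_ok : checkWord 11 2048 relT33 1080 = true := by
  decide +kernel

theorem relT34_ok : checkWord 11 2048 relT34 1080 = true := by
  decide +kernel

theorem relT35_ok : checkWord 11 2048 relT35 1080 = true := by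
  decide +kernel

theorem relT36_ok : checkWord 11 2048 relT36 1080 = true := by
  decide +kernel

theorem relT37_ok : checkWord 11 2048 relT37 1080 = true := by
  decide +kernel

theorem relT38_ok : checkWord 11 2048 relT38 1080 = true := by
  decide +kernel

theorem relT39_ok : checkWord 11 2048 relT39 1080 = true := by
  decide +kernel

theorem relT40_ok : checkWord 11 2048 relT40 1080 = true := by
  decide +kernel

theorem relT41_ok : checkWord 11 2048 relT41 1080 = true := by
  decide +kernel

theorem relT42_ok : checkWord 11 2048 relT42 1080 = true := by
  decide +kernel

theorem relT43_ok : checkWord 11 2048 relT43 1080 = true := by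
  decide +kernel

theorem relT44_ok : checkWord 11 2048 relT44 1080 = true := by
  decide +kernel

theorem relT45_ok : checkWord 11 2048 relT45 1080 = true := by
  decide +kernel

theorem relT46_ok : checkWord 11 2048 relT46 1080 = true := by
  decide +kernel

theorem relT47_ok : checkWord 11 2048 relT47 1080 = true := by
  decide +kernel

theorem relT48_ok : checkWord 11 2048 relT48 1080 = true := by
  decide +kernel

theorem relT49_ok : checkWord 11 2048 relT49 1080 = true := by
  decide +kernel

theorem relT50_ok : checkWord 11 2048 relT50 1080 = true := by
  decide +kernel

theorem relT51_ok : checkWord 11 2048 relT51 1080 = true := by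
  decide +kernel

theorem relT52_ok : checkWord 11 2048 relT52 1080 = true := by
  decide +kernel

theorem relT53_ok : checkWord 11 2048 relT53 1080 = true := by
  decide +kernel

theorem relT54_ok : checkWord 11 2048 relT54 1080 = true := by
  decide +kernel

theorem relT55_ok : checkWord 11 2048 relT55 1080 = true := by
  decide +kernel

theorem relT56_ok : checkWord 11 2048 relT56 1080 = true := by
  decide +kernel

theorem relT57_ok : checkWord 11 2048 relT57 1080 = true := by
  decide +kernel

end Cfsg.Agent.Lib.H17.Y522Q
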